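import Groth.Agent.TwHom19.Global
import Groth.Agent.GrpSchLib.MultTypeBC

/-!
# Common etale refinements and the group of characters
-/

universe u

open CategoryTheory CategoryTheory.Limits MonoidalCategory CartesianMonoidalCategory MonObj GrpObj AlgebraicGeometry

set_option linter.style.haveILetI false

noncomputable section

namespace Groth.Agent.TwHom19

open DSPtsLib (pt pt_mul exists_eq_pt)
open GrpSchLib.SubgroupFactor (pull pull_single)

variable {S : Scheme.{u}}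

/-- Points of diagonalisable groups commute. -/
theorem DS_comm {X : Scheme.{u}} (M : Type) [AddCommGroup M] (Y : Over X) (a b : Y ⟶ Red.DS X M) : a * b = b * a :=
  ext_affine fun B _ j z => by
    obtain ⟨c, hc⟩ := exists_eq_pt j (z ≫ a)
    obtain ⟨c', hc'⟩ := exists_eq_pt j (z ≫ b)
    obtain ⟨d, hd⟩ := exists_char_mul c c'
    rw [MonObj.comp_mul, MonObj.comp_mul, hc, hc', pt_mul j c c' d hd, pt_mul j c' c d fun m => by rw [hd, mul_comm]]

/-- Adding maps of characters multiplies the homomorphisms. -/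
theorem Dmap_add {X : Scheme.{u}} {M N : Type} [AddCommGroup M] [AddCommGroup N] (φ φ' : N →+ M) :
    Dmap X φ * Dmap X φ' = Dmap X (φ + φ') := by
  refine ext_affine fun B _ j z => ?_
  obtain ⟨c, rfl⟩ := exists_eq_pt j z
  rw [MonObj.comp_mul, pt_Dmap, pt_Dmap, pt_Dmap]
  refine pt_mul j _ _ _ fun n => ?_
  rw [pull_single, pull_single, pull_single, ← map_mul, MonoidAlgebra.single_mul_single, _root_.mul_one]
  rfl

/-- Splittings of two groups on a common etale neighbourhood. -/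
theorem exists_common {H G : Over S} [GrpObj H] [GrpObj G]
    (hH : TwC.Locally S TwC.Topology.etale (fun S' f => ∃ (M : Type) (_ : AddCommGroup M),
      Nonempty (Grp.mk (Red.bc f H) ≅ Grp.mk (Red.DS S' M))))
    (hG : TwC.Locally S TwC.Topology.etale (fun S' f => ∃ (M : Type) (_ : AddCommGroup M),
      AddGroup.FG M ∧ Nonempty (Grp.mk (Red.bc f G) ≅ Grp.mk (Red.DS S' M)))) (s : S) :
    ∃ (X : Scheme.{u}) (f : X ⟶ S) (M N : Type) (_ : AddCommGroup M) (_ : AddCommGroup N),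
      Etale f ∧ s ∈ Set.range f.base ∧ AddGroup.FG N ∧
      Nonempty (Grp.mk (Red.DS X M) ≅ Grp.mk (Red.bc f H)) ∧ Nonempty (Grp.mk (Red.DS X N) ≅ Grp.mk (Red.bc f G)) := by
  obtain ⟨S₁, f₁, hf₁, ⟨x₁, hx₁⟩, M, _, ⟨e₁⟩⟩ := hH s
  obtain ⟨S₂, f₂, hf₂, ⟨x₂, hx₂⟩, N, _, hN, ⟨e₂⟩⟩ := hG s
  obtain ⟨z, hz₁, -⟩ := Scheme.Pullback.exists_preimage_pullback x₁ x₂ (hx₁.trans hx₂.symm)
  let p := pullback.fst f₁ f₂
  let q := pullback.snd f₁ f₂
  obtain ⟨a₁⟩ := GrpSchLib.MultTypeBC.bc_bc p f₁ H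
  obtain ⟨b₁⟩ := GrpSchLib.MultTypeBC.bc_iso p e₁
  obtain ⟨c₁⟩ := GrpSchLib.MultTypeBC.bc_DS p M
  obtain ⟨a₂⟩ := GrpSchLib.MultTypeBC.bc_bc q f₂ G
  obtain ⟨b₂⟩ := GrpSchLib.MultTypeBC.bc_iso q e₂
  obtain ⟨c₂⟩ := GrpSchLib.MultTypeBC.bc_DS q N
  obtain ⟨d₂⟩ := GrpSchLib.MultTypeBC.bc_congr (pullback.condition (f := f₁) (g := f₂)).symm G
  haveI := hf₁
  haveI := hf₂
  refine ⟨pullback f₁ f₂, p ≫ f₁, M, N, inferInstance, inferInstance, inferInstance, ⟨z, ?_⟩, hN,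
    ⟨c₁.symm ≪≫ b₁.symm ≪≫ a₁⟩, ⟨c₂.symm ≪≫ b₂.symm ≪≫ a₂ ≪≫ d₂⟩⟩
  rw [Scheme.Hom.comp_apply, show p.base z = x₁ from hz₁, hx₁]

end Groth.Agent.TwHom19

end
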