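import Groth.Agent.TwHom19.Apply

/-!
# Characters of a constant group form a diagonalisable group
-/

universe u

open CategoryTheory CategoryTheory.Limits MonoidalCategory CartesianMonoidalCategory MonObj GrpObj AlgebraicGeometry

set_option linter.style.haveILetI false

noncomputable section

namespace Groth.Agent.TwHom19

open DSPtsLib (CoordM spU pt pt_comp exists_eq_pt)
open GrpSchLib.SubgroupFactor (pull pull_single)
open GrpSchLib.HomMonoLocus (pt_injective)
open MultDefLib (IsCover isCover_of_openCover)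

variable {X : Scheme.{u}} {M : Type} [AddCommGroup M]

/-- The character `ℤ → M` of an element. -/
abbrev mult (m : M) : ℤ →+ M := zmultiplesHom M m

theorem mult_ofAdd (m : M) : AddMonoidHom.toMultiplicative (mult m) (Multiplicative.ofAdd 1) = Multiplicative.ofAdd m := by
  show Multiplicative.ofAdd ((1 : ℤ) • m) = _
  rw [one_smul]

/-- Points of a diagonalisable group are determined by their characters. -/
theorem ext_chars {Y : Over X} {a a' : Y ⟶ Red.DS X M} (h : ∀ m, a ≫ Dmap X (mult m) = a' ≫ Dmap X (mult m)) :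
    a = a' := by
  refine ext_affine fun B _ j z => ?_
  obtain ⟨c, hc⟩ := exists_eq_pt j (z ≫ a)
  obtain ⟨c', hc'⟩ := exists_eq_pt j (z ≫ a')
  rw [hc, hc']
  congr 1
  refine GrpSchLib.DiagActionRigid.coord_ext fun n => ?_
  have h1 := congrArg (z ≫ ·) (h (Multiplicative.toAdd n))
  simp only [← Category.assoc, hc, hc', pt_Dmap] at h1
  have h2 := RingHom.congr_fun (pt_injective j h1) (MonoidAlgebra.single (Multiplicative.ofAdd (1 : ℤ)) 1)
  rwa [pull_single, pull_single, mult_ofAdd] at h2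

/-- A compatible system of characters is a point of the diagonalisable group. -/
theorem exists_point {T : Over X} (k : M → (T ⟶ Red.DS X ℤ)) (hk : ∀ m n, k (m + n) = k m * k n) :
    ∃ a : T ⟶ Red.DS X M, ∀ m, a ≫ Dmap X (mult m) = k m := by
  classical
  have hloc : ∀ i : T.left.affineCover.I₀, ∃ (B : CommRingCat.{u}) (j : Spec B ⟶ X) (q : spU j ⟶ T)
      (a : spU j ⟶ Red.DS X M), IsOpenImmersion q.left ∧
        Set.range q.left.base = Set.range (T.left.affineCover.f i).base ∧ ∀ m, a ≫ Dmap X (mult m) = q ≫ k m := by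
    intro i
    obtain ⟨B, hB⟩ : ∃ B : CommRingCat.{u}, T.left.affineCover.X i = Spec B := ⟨_, rfl⟩
    let ι₁ : Spec B ⟶ T.left := eqToHom hB.symm ≫ T.left.affineCover.f i
    let j : Spec (CommRingCat.of B) ⟶ X := ι₁ ≫ T.hom
    let q : spU j ⟶ T := Over.homMk ι₁ rfl
    choose c hc using fun m => exists_eq_pt j (q ≫ k m)
    let one := MonoidAlgebra.single (Multiplicative.ofAdd (1 : ℤ)) (1 : ULift.{u} ℤ)
    have hc0 : ∀ m n, c (m + n) one = c m one * c n one := fun m n => by
      obtain ⟨d, hd⟩ := exists_char_mul (c m) (c n)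
      have h1 : pt j (c (m + n)) = pt j d := by
        rw [← hc, hk, MonObj.comp_mul, hc, hc, DSPtsLib.pt_mul j _ _ d hd]
      rw [pt_injective j h1]
      exact hd _
    have h00 : c 0 one = 1 := by
      have h1 : IsUnit (c 0 one) := by
        refine IsUnit.map (c 0) ⟨⟨one, MonoidAlgebra.single (Multiplicative.ofAdd (-1 : ℤ)) 1, ?_, ?_⟩, rfl⟩ <;>
          simp [one, MonoidAlgebra.single_mul_single, MonoidAlgebra.one_def, ← ofAdd_add]
      have h2 := hc0 0 0
      rw [add_zero] at h2
      exact h1.mul_left_cancel (h2.symm.trans (_root_.mul_one _).symm)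
    let v : Multiplicative M →* B :=
      { toFun := fun m => c (Multiplicative.toAdd m) one
        map_one' := h00
        map_mul' := fun m n => hc0 _ _ }
    letI : Algebra (ULift.{u} ℤ) B := ((algebraMap ℤ B).comp ULift.ringEquiv.toRingHom).toAlgebra
    let d : CoordM.{u} M →+* B := (MonoidAlgebra.lift (ULift.{u} ℤ) B (Multiplicative M) v).toRingHom
    have hd : ∀ n, d (MonoidAlgebra.single n 1) = v n := fun n => by
      show MonoidAlgebra.lift (ULift.{u} ℤ) B (Multiplicative M) v _ = _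
      rw [MonoidAlgebra.lift_single, Algebra.smul_def, map_one, _root_.one_mul]
    refine ⟨B, j, q, pt j d, inferInstanceAs (IsOpenImmersion (eqToHom hB.symm ≫ _)), ?_, fun m => ?_⟩
    · show Set.range (eqToHom hB.symm ≫ T.left.affineCover.f i).base = _
      rw [Scheme.Hom.comp_base, TopCat.coe_comp]
      exact Function.Surjective.range_comp (eqToHom hB.symm).surjective _
    · rw [pt_Dmap, hc]
      congr 1
      refine GrpSchLib.DiagActionRigid.coord_ext fun z => ?_
      obtain ⟨z, rfl⟩ : ∃ z', Multiplicative.ofAdd z' = z := ⟨_, Multiplicative.ofAdd.symm_apply_apply z⟩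
      let f₁ : Multiplicative ℤ →* B :=
        ((pull (mult m) d : CoordM.{u} ℤ →* B).comp (MonoidAlgebra.of _ _))
      let f₂ : Multiplicative ℤ →* B := ((c m : CoordM.{u} ℤ →* B).comp (MonoidAlgebra.of _ _))
      have hf : f₁ = f₂ := MonoidHom.ext_mint (by
        show pull (mult m) d (MonoidAlgebra.single _ 1) = c m one
        rw [pull_single, mult_ofAdd, hd]
        rfl)
      exact DFunLike.congr_fun hf _
  choose B j q a hq hr ha using hloc
  have hcov : IsCover q := isCover_of_openCover hq fun x => by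
    obtain ⟨i, y, hy⟩ := T.left.affineCover.exists_eq x
    obtain ⟨y', hy'⟩ : x ∈ Set.range (q i).left.base := by rw [hr]; exact ⟨y, hy⟩
    exact ⟨i, y', hy'⟩
  obtain ⟨g, hg⟩ := hcov.exists_glue a fun i i' Y r r' hrr => ext_chars fun m => by
    rw [Category.assoc, Category.assoc, ha, ha, ← Category.assoc, ← Category.assoc, hrr]
  exact ⟨g, fun m => hcov.hom_ext fun i => by rw [← Category.assoc, hg, ha]⟩

/-- The characters of a constant group form the diagonalisable group. -/
theorem exists_representsHom_const {R : Over X} [GrpObj R] {I : Type u} (e : R ≅ TwC.const X I) (p : I ≃ M)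
    (hmul : ∀ m n, (TwC.pt X I (p.symm m) ≫ e.inv) * (TwC.pt X I (p.symm n) ≫ e.inv) = TwC.pt X I (p.symm (m + n)) ≫ e.inv) :
    ∃ υ : R ⊗ Red.DS X M ⟶ Red.DS X ℤ, AutFam.RepresentsHom R (Red.DS X ℤ) (Red.DS X M) υ ∧
      ∀ (Y : Over X) (c c' : Y ⟶ Red.DS X M),
        (R ◁ (c * c')) ≫ υ = ((R ◁ c) ≫ υ) * ((R ◁ c') ≫ υ) := by
  let q : ∀ i : I, 𝟙_ (Over X) ⟶ R := fun i => TwC.pt X I i ≫ e.inv
  haveI : ∀ i, IsOpenImmersion (q i).left := fun i => by
    haveI : IsIso e.inv.left := inferInstanceAs (IsIso ((Over.forget _).map e.inv))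
    exact inferInstanceAs (IsOpenImmersion (Sigma.ι (fun _ : I => X) i ≫ e.inv.left))
  have hq : IsCover q := isCover_of_openCover (fun i => inferInstance) fun x => by
    obtain ⟨i, y, hy⟩ := GalTw.exists_eq_ι (e.hom.left.base x)
    refine ⟨i, y, ?_⟩
    have h1 : (e.hom ≫ e.inv).left.base x = x := by rw [Iso.hom_inv_id]; rfl
    show (Sigma.ι (fun _ : I => X) i ≫ e.inv.left).base y = x
    rw [Scheme.Hom.comp_apply, hy, ← Scheme.Hom.comp_apply]
    exact h1
  -- pieces of a pair
  have piece : ∀ {Y : Over X} (r : Y ⟶ R), ∃ (P : I → Over X) (w : ∀ i, P i ⟶ Y), IsCover w ∧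
      ∀ i, w i ≫ r = toUnit _ ≫ q i := fun {Y} r =>
    ⟨copyPiece (r ≫ e.hom), copyι (r ≫ e.hom), copyι_cover _, fun i => by
      simp only [q]
      rw [← Category.assoc (toUnit _), ← copyι_comp]
      simp⟩
  have hwhisk : ∀ T : Over X, IsCover (fun i => (q i) ▷ T) := fun T =>
    IsCover.of_isPullback hq _ (fst _ _) (fun i => fst _ _) fun i => by
      have h := GrpSchLib.isPullback_whiskerLeft (W := T) (q i)
      let σ := fun Y : Over X => (Over.forget X).mapIso (β_ Y T)
      refine IsPullback.of_iso h (σ (𝟙_ _)).symm (σ R).symm (Iso.refl _) (Iso.refl _) ?_ ?_ ?_ ?_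
      · exact congrArg CommaMorphism.left (show (T ◁ q i) ≫ (β_ R T).inv = (β_ (𝟙_ _) T).inv ≫ (q i ▷ T) from
          CartesianMonoidalCategory.hom_ext _ _ (by simp) (by simp))
      · exact congrArg CommaMorphism.left (show snd T (𝟙_ _) ≫ 𝟙 _ = (β_ (𝟙_ _) T).inv ≫ fst _ _ from toUnit_unique _ _)
      · exact congrArg CommaMorphism.left (show snd T R ≫ 𝟙 _ = (β_ R T).inv ≫ fst _ _ by simp)
      · simp
  obtain ⟨υ, hυ⟩ := (hwhisk (Red.DS X M)).exists_glue (fun i => snd _ _ ≫ Dmap X (mult (p i))) fun i i' Y a b hab => by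
    rcases isEmpty_or_nonempty Y.left with hY | hY
    · exact empty_ext _ _
    have h1 : a ≫ snd _ _ = b ≫ snd _ _ := by simpa using congrArg (· ≫ snd _ _) hab
    have h2 : toUnit Y ≫ q i = toUnit Y ≫ q i' := by
      have := congrArg (· ≫ fst _ _) hab
      simp only [Category.assoc, whiskerRight_fst] at this
      rw [← toUnit_unique (a ≫ fst _ _) (toUnit Y), Category.assoc, this, ← Category.assoc,
        toUnit_unique (b ≫ fst _ _) (a ≫ fst _ _)]
    simp only [q, ← Category.assoc, cancel_mono] at h2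
    obtain rfl := pt_disjoint h2 rfl
    rw [← Category.assoc, ← Category.assoc, h1]
  have hev : ∀ {Y : Over X} (i : I) (c : Y ⟶ Red.DS X M),
      lift (toUnit Y ≫ q i) c ≫ υ = c ≫ Dmap X (mult (p i)) := fun {Y} i c => by
    rw [← lift_whiskerRight, Category.assoc, hυ, lift_snd_assoc]
  have hbil : ∀ (Y : Over X) (r : Y ⟶ R) (c c' : Y ⟶ Red.DS X M),
      lift r (c * c') ≫ υ = (lift r c ≫ υ) * (lift r c' ≫ υ) := fun Y r c c' => by
    obtain ⟨P, w, hw, hwr⟩ := piece r
    refine hw.hom_ext fun i => ?_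
    simp only [MonObj.comp_mul, ← Category.assoc, comp_lift, hwr]
    rw [hev, hev, hev]
    haveI : IsMonHom (Dmap X (mult (p i))) := isMonHom_Dmap _
    exact MonObj.mul_comp _ _ _
  refine ⟨υ, ⟨fun Y g₁ g₂ c => ?_, fun T ψ hψ => ?_⟩, fun Y c c' => ?_⟩
  · obtain ⟨P, w, hw, hwr⟩ := piece g₁
    refine hw.hom_ext fun i => ?_
    obtain ⟨P', w', hw', hwr'⟩ := piece (w i ≫ g₂)
    refine hw'.hom_ext fun k => ?_
    have e₁ : w' k ≫ w i ≫ g₁ = toUnit _ ≫ q i := by
      rw [hwr, ← Category.assoc, toUnit_unique (w' k ≫ toUnit _) (toUnit _)]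
    have e₂ : w' k ≫ w i ≫ g₂ = toUnit _ ≫ q k := hwr' k
    have e₃ : w' k ≫ w i ≫ (g₁ * g₂) = toUnit _ ≫ q (p.symm (p i + p k)) := by
      rw [MonObj.comp_mul, MonObj.comp_mul, e₁, e₂, ← MonObj.comp_mul]
      congr 1
      simpa [q] using hmul (p i) (p k)
    have ed : ∀ g : Y ⟶ R, w' k ≫ w i ≫ lift g c ≫ υ = lift (w' k ≫ w i ≫ g) (w' k ≫ w i ≫ c) ≫ υ := fun g => by
      simp only [← Category.assoc, comp_lift]
    rw [ed, e₃, MonObj.comp_mul (w i), MonObj.comp_mul (w' k), ed, ed, e₁, e₂, hev, hev, hev, ← MonObj.comp_mul,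
      Dmap_add, Equiv.apply_symm_apply,
      show mult (p i + p k) = mult (p i) + mult (p k) from AddMonoidHom.ext_int (by simp [mult])]
  · obtain ⟨a, ha⟩ := exists_point (T := T) (fun m => lift (toUnit T ≫ q (p.symm m)) (𝟙 T) ≫ ψ) fun m n => by
      beta_reduce
      rw [show toUnit T ≫ q (p.symm (m + n)) = (toUnit T ≫ q (p.symm m)) * (toUnit T ≫ q (p.symm n)) by
        rw [← MonObj.comp_mul]; exact congrArg (toUnit T ≫ ·) (hmul m n).symm]
      exact hψ T _ _ _
    refine ⟨a, (hwhisk T).hom_ext fun i => ?_, fun a' ha' => ext_chars fun m => ?_⟩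
    · rw [← Category.assoc, ← whisker_exchange, Category.assoc, hυ, whiskerLeft_snd_assoc]
      have h1 := congrArg (snd (𝟙_ (Over X)) T ≫ ·) (ha (p i))
      simp only [Equiv.symm_apply_apply] at h1
      rw [h1, ← Category.assoc]
      congr 1
      refine CartesianMonoidalCategory.hom_ext _ _ ?_ (by simp)
      rw [whiskerRight_fst, Category.assoc, lift_fst, ← Category.assoc,
        toUnit_unique (snd (𝟙_ (Over X)) T ≫ toUnit T) (fst _ _)]
    · rw [ha, ← ha', lift_whiskerLeft_assoc, Category.id_comp, hev, Equiv.apply_symm_apply]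
  · have h1 : (R ◁ (c * c')) = lift (fst R Y) (snd R Y ≫ (c * c')) := CartesianMonoidalCategory.hom_ext _ _ (by simp) (by simp)
    rw [h1, MonObj.comp_mul, hbil, show R ◁ c = lift (fst R Y) (snd R Y ≫ c) from CartesianMonoidalCategory.hom_ext _ _ (by simp) (by simp),
      show R ◁ c' = lift (fst R Y) (snd R Y ≫ c') from CartesianMonoidalCategory.hom_ext _ _ (by simp) (by simp)]

end Groth.Agent.TwHom19

end
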