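import Groth.Agent.MultDefLib.CoverGlue
import Groth.Agent.MultLift19.Basic
import Groth.Agent.GrpSchLib.SubgroupFactor
import Groth.Agent.GrpSchLib.Coincidence
import Groth.Agent.GalTw.Basic
import Groth.Prelude.Def_AutFam

/-!
# Homomorphisms of diagonalisable groups form a constant scheme

For `N` finitely generated, `Hom(D(M), D(N))` is the constant scheme on `Hom(N, M)`.
-/

universe u

open CategoryTheory CategoryTheory.Limits MonoidalCategory CartesianMonoidalCategory MonObj GrpObj AlgebraicGeometry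

set_option linter.style.haveILetI false

noncomputable section

namespace Groth.Agent.TwHom19

open DSPtsLib (CoordM spU pt pt_fst pt_comp pt_mul exists_eq_pt)
open GrpSchLib.SubgroupFactor (pull pull_single)
open GrpSchLib.HomMonoLocus (pt_injective)
open MultDefLib (IsCover isCover_of_openCover)

variable {X : Scheme.{u}} {M N : Type} [AddCommGroup M] [AddCommGroup N]

variable (X) in
/-- The homomorphism of diagonalisable groups given by a map of characters. -/
def Dmap (φ : N →+ M) : Red.DS X M ⟶ Red.DS X N :=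
  (Over.pullback (IsTerminal.from specULiftZIsTerminal X)).map
    (show Red.diag (ULift.{u} ℤ) M ⟶ Red.diag (ULift.{u} ℤ) N from
      Over.homMk (Spec.map (CommRingCat.ofHom (MonoidAlgebra.mapDomainRingHom (ULift.{u} ℤ)
        (AddMonoidHom.toMultiplicative φ)))) (specULiftZIsTerminal.hom_ext _ _))

theorem pt_Dmap {B : Type u} [CommRing B] (j : Spec (CommRingCat.of B) ⟶ X) (c : CoordM.{u} M →+* B) (φ : N →+ M) :
    pt j c ≫ Dmap X φ = pt j (pull φ c) := by
  refine Over.OverMorphism.ext (pullback.hom_ext ?_ ?_)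
  · rw [pt_fst, Over.comp_left]
    show (_ ≫ pullback.lift (pullback.fst _ _ ≫ _) (pullback.snd _ _) _) ≫ pullback.fst _ _ = _
    rw [Category.assoc, pullback.lift_fst, ← Category.assoc, pt_fst]
    show Spec.map _ ≫ Spec.map _ = _
    rw [← Spec.map_comp]
    rfl
  · exact (Over.w _).trans (Over.w _).symm

/-- Maps agree if they agree on points with values in rings. -/
theorem ext_affine {Y K : Over X} {a b : Y ⟶ K}
    (h : ∀ (B : Type u) [CommRing B] (j : Spec (CommRingCat.of B) ⟶ X) (z : spU j ⟶ Y), z ≫ a = z ≫ b) : a = b := by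
  refine Over.OverMorphism.ext (Scheme.Cover.hom_ext Y.left.affineCover _ _ fun i => ?_)
  obtain ⟨B, hB⟩ : ∃ B : CommRingCat.{u}, Y.left.affineCover.X i = Spec B := ⟨_, rfl⟩
  let ι₁ : Spec B ⟶ Y.left := eqToHom hB.symm ≫ Y.left.affineCover.f i
  have h1 := congrArg CommaMorphism.left (h B (ι₁ ≫ Y.hom) (Over.homMk ι₁ rfl))
  rw [← cancel_epi (eqToHom hB.symm)]
  exact (Category.assoc _ _ _).symm.trans (h1.trans (Category.assoc _ _ _))

theorem pull_add_single {B : Type u} [CommRing B] (φ : N →+ M) (c c' d : CoordM.{u} M →+* B)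
    (h : ∀ m, d (MonoidAlgebra.single m 1) = c (MonoidAlgebra.single m 1) * c' (MonoidAlgebra.single m 1)) (n : Multiplicative N) :
    pull φ d (MonoidAlgebra.single n 1) = pull φ c (MonoidAlgebra.single n 1) * pull φ c' (MonoidAlgebra.single n 1) := by
  rw [pull_single, pull_single, pull_single, h]

theorem exists_char_mul {B : Type u} [CommRing B] (c c' : CoordM.{u} M →+* B) :
    ∃ d : CoordM.{u} M →+* B, ∀ m, d (MonoidAlgebra.single m 1) =
      c (MonoidAlgebra.single m 1) * c' (MonoidAlgebra.single m 1) := by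
  let v : Multiplicative M →* B := ((c : CoordM.{u} M →* B).comp (MonoidAlgebra.of _ _)) *
    ((c' : CoordM.{u} M →* B).comp (MonoidAlgebra.of _ _))
  letI : Algebra (ULift.{u} ℤ) B := ((algebraMap ℤ B).comp ULift.ringEquiv.toRingHom).toAlgebra
  refine ⟨(MonoidAlgebra.lift (ULift.{u} ℤ) B (Multiplicative M) v).toRingHom, fun m => ?_⟩
  show MonoidAlgebra.lift (ULift.{u} ℤ) B (Multiplicative M) v _ = _
  rw [MonoidAlgebra.lift_single, Algebra.smul_def, map_one, _root_.one_mul]
  rfl

instance isMonHom_Dmap (φ : N →+ M) : IsMonHom (Dmap X φ) := by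
  refine MultLift19.isMonHom_of_mul _ fun Y a b => ext_affine fun B _ j z => ?_
  obtain ⟨c, hc⟩ := exists_eq_pt j (z ≫ a)
  obtain ⟨c', hc'⟩ := exists_eq_pt j (z ≫ b)
  obtain ⟨d, hd⟩ := exists_char_mul c c'
  rw [MonObj.comp_mul, ← Category.assoc z (a * b), MonObj.comp_mul, ← Category.assoc z a, ← Category.assoc z b,
    hc, hc', pt_mul j c c' d hd, pt_Dmap, pt_Dmap, pt_Dmap]
  exact (pt_mul j _ _ _ (pull_add_single φ c c' d hd)).symm

/-- The universal character over a ring. -/
def unv (B : Type u) [CommRing B] (M : Type) [AddCommGroup M] :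
    CoordM.{u} M →+* MonoidAlgebra B (Multiplicative M) :=
  MonoidAlgebra.mapRingHom _ ((algebraMap ℤ B).comp ULift.ringEquiv.toRingHom)

theorem unv_single (B : Type u) [CommRing B] (m : Multiplicative M) :
    unv B M (MonoidAlgebra.single m 1) = MonoidAlgebra.single m (1 : B) :=
  (MonoidAlgebra.mapRingHom_single _ m 1).trans (congrArg _ (map_one _))

/-- The map of characters is determined by the homomorphism over a non-empty base. -/
theorem Dmap_injective {B : Type u} [CommRing B] [Nontrivial B] (j : Spec (CommRingCat.of B) ⟶ X) {φ φ' : N →+ M}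
    (h : fst (Red.DS X M) (spU j) ≫ Dmap X φ = fst _ _ ≫ Dmap X φ') : φ = φ' := by
  let R := MonoidAlgebra B (Multiplicative M)
  let jR : Spec (CommRingCat.of R) ⟶ X := Spec.map (CommRingCat.ofHom MonoidAlgebra.singleOneRingHom) ≫ j
  have h1 := congrArg (lift (pt jR (unv B M))
    (Over.homMk (Spec.map (CommRingCat.ofHom MonoidAlgebra.singleOneRingHom)) rfl : spU jR ⟶ spU j) ≫ ·) h
  simp only [lift_fst_assoc, pt_Dmap] at h1
  have h2 := pt_injective jR h1
  refine AddMonoidHom.ext fun n => ?_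
  have h3 := RingHom.congr_fun h2 (MonoidAlgebra.single (Multiplicative.ofAdd n) 1)
  rw [pull_single, pull_single, unv_single, unv_single] at h3
  exact congrArg Multiplicative.toAdd ((MonoidAlgebra.single_left_inj one_ne_zero).mp h3)

theorem evalChar_unv {B : Type u} [CommRing B] (c : CoordM.{u} M →+* B) :
    ∃ σ : MonoidAlgebra B (Multiplicative M) →+* B, σ.comp MonoidAlgebra.singleOneRingHom = RingHom.id B ∧
      σ.comp (unv B M) = c ∧
        ∀ m, σ (MonoidAlgebra.single m 1) = c (MonoidAlgebra.single m 1) := by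
  let χ : Multiplicative M →* B := (c : CoordM.{u} M →* B).comp (MonoidAlgebra.of _ _)
  let σ := (MonoidAlgebra.lift B B (Multiplicative M) χ).toRingHom
  have hs : ∀ m, σ (MonoidAlgebra.single m 1) = c (MonoidAlgebra.single m 1) := fun m => by
    show MonoidAlgebra.lift B B (Multiplicative M) χ _ = _
    rw [MonoidAlgebra.lift_single, one_smul]
    rfl
  refine ⟨σ, RingHom.ext fun b => ?_, GrpSchLib.DiagActionRigid.coord_ext fun m => ?_, hs⟩
  · show MonoidAlgebra.lift B B (Multiplicative M) χ (MonoidAlgebra.single 1 b) = b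
    rw [MonoidAlgebra.lift_single, map_one, smul_eq_mul, _root_.mul_one]
  · rw [RingHom.comp_apply, unv_single, hs]

/-- A family of homomorphisms is given near each prime by one map of characters. -/
theorem exists_phi_near [AddGroup.FG N] {T : Over X} {ψ : Red.DS X M ⊗ T ⟶ Red.DS X N}
    (hψ : AutFam.IsHomFamily (Red.DS X M) (Red.DS X N) ψ) {B : Type u} [CommRing B]
    (j : Spec (CommRingCat.of B) ⟶ X) (t : spU j ⟶ T) (p : Ideal B) [p.IsPrime] :
    ∃ d ∉ p, ∃ φ : N →+ M, ∀ (B' : Type u) [CommRing B'] (σ : B →+* B') (j' : Spec (CommRingCat.of B') ⟶ X)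
      (hj : Spec.map (CommRingCat.ofHom σ) ≫ j = j') (c : CoordM.{u} M →+* B'), IsUnit (σ d) →
      lift (pt j' c) ((Over.homMk (Spec.map (CommRingCat.ofHom σ)) hj : spU j' ⟶ spU j) ≫ t) ≫ ψ =
        pt j' (pull φ c) := by
  classical
  let R := MonoidAlgebra B (Multiplicative M)
  let R2 := MonoidAlgebra B (Multiplicative M × Multiplicative M)
  let s : B →+* R := MonoidAlgebra.singleOneRingHom
  let jR : Spec (CommRingCat.of R) ⟶ X := Spec.map (CommRingCat.ofHom s) ≫ j
  let tR : spU jR ⟶ T := (Over.homMk (Spec.map (CommRingCat.ofHom s)) rfl : spU jR ⟶ spU j) ≫ t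
  obtain ⟨w, hw⟩ := exists_eq_pt jR (lift (pt jR (unv B M)) tR ≫ ψ)
  let v : Multiplicative N →* R := (w : CoordM.{u} N →* R).comp (MonoidAlgebra.of _ _)
  -- specialisation
  have spec : ∀ {B' : Type u} [CommRing B'] (ρ : R →+* B') (σ : B →+* B') (_ : ρ.comp s = σ)
      (j' : Spec (CommRingCat.of B') ⟶ X) (hj : Spec.map (CommRingCat.ofHom σ) ≫ j = j'),
      lift (pt j' (ρ.comp (unv B M))) ((Over.homMk (Spec.map (CommRingCat.ofHom σ)) hj : spU j' ⟶ spU j) ≫ t) ≫ ψ =
        pt j' (ρ.comp w) := by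
    intro B' _ ρ σ hσ j' hj
    have hρ : Spec.map (CommRingCat.ofHom ρ) ≫ jR = j' := by
      rw [← Category.assoc, ← Spec.map_comp, ← CommRingCat.ofHom_comp, hσ, hj]
    rw [← pt_comp jR (unv B M) ρ j' hρ, ← pt_comp jR w ρ j' hρ, ← hw, ← Category.assoc, comp_lift]
    congr 2
    refine Over.OverMorphism.ext ?_
    simp only [tR, Over.comp_left, Over.homMk_left, ← Category.assoc]
    rw [← Spec.map_comp, ← CommRingCat.ofHom_comp, hσ]
  have hv : ∀ n, MonoidAlgebra.mapDomainRingHom B (MonoidHom.inl (Multiplicative M) (Multiplicative M)) (v n) *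
      MonoidAlgebra.mapDomainRingHom B (MonoidHom.inr (Multiplicative M) (Multiplicative M)) (v n) =
      MonoidAlgebra.mapDomainRingHom B ((MonoidHom.id (Multiplicative M)).prod (MonoidHom.id _)) (v n) := by
    let j2 : Spec (CommRingCat.of R2) ⟶ X := Spec.map (CommRingCat.ofHom MonoidAlgebra.singleOneRingHom) ≫ j
    let τ₁ := MonoidHom.inl (Multiplicative M) (Multiplicative M)
    let τ₂ := MonoidHom.inr (Multiplicative M) (Multiplicative M)
    let τ₃ := (MonoidHom.id (Multiplicative M)).prod (MonoidHom.id (Multiplicative M))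
    have hσ : ∀ τ : Multiplicative M →* Multiplicative M × Multiplicative M,
        (MonoidAlgebra.mapDomainRingHom B τ).comp s = MonoidAlgebra.singleOneRingHom := fun τ =>
      RingHom.ext fun b => (MonoidAlgebra.mapDomain_single (f := τ) (a := 1) (r := b)).trans
        (congrArg (fun m => MonoidAlgebra.single m b) τ.map_one)
    have h3 := hψ _ (pt j2 ((MonoidAlgebra.mapDomainRingHom B τ₁).comp (unv B M)))
      (pt j2 ((MonoidAlgebra.mapDomainRingHom B τ₂).comp (unv B M)))
      ((Over.homMk (Spec.map (CommRingCat.ofHom MonoidAlgebra.singleOneRingHom)) rfl : spU j2 ⟶ spU j) ≫ t)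
    rw [pt_mul j2 _ _ ((MonoidAlgebra.mapDomainRingHom B τ₃).comp (unv B M)) fun m => by
      simp only [RingHom.comp_apply, unv_single]
      show MonoidAlgebra.mapDomain _ _ = MonoidAlgebra.mapDomain _ _ * MonoidAlgebra.mapDomain _ _
      rw [MonoidAlgebra.mapDomain_single, MonoidAlgebra.mapDomain_single, MonoidAlgebra.mapDomain_single,
        MonoidAlgebra.single_mul_single]
      simp [τ₁, τ₂, τ₃]] at h3
    rw [spec _ _ (hσ τ₁) j2 rfl, spec _ _ (hσ τ₂) j2 rfl, spec _ _ (hσ τ₃) j2 rfl] at h3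
    obtain ⟨d, hd⟩ := exists_char_mul ((MonoidAlgebra.mapDomainRingHom B τ₁).comp w)
      ((MonoidAlgebra.mapDomainRingHom B τ₂).comp w)
    rw [pt_mul j2 _ _ d hd] at h3
    intro n
    exact (hd n).symm.trans (RingHom.congr_fun (pt_injective _ h3).symm (MonoidAlgebra.single n 1))
  -- at the local ring
  let Bp := Localization.AtPrime p
  let π : R →+* MonoidAlgebra Bp (Multiplicative M) := MonoidAlgebra.mapRingHom _ (algebraMap B Bp)
  have hπ : ∀ (τ : Multiplicative M →* Multiplicative M × Multiplicative M) (z : R),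
      MonoidAlgebra.mapDomainRingHom Bp τ (π z) =
        MonoidAlgebra.mapRingHom _ (algebraMap B Bp) (MonoidAlgebra.mapDomainRingHom B τ z) := fun τ z => by
    induction z using MonoidAlgebra.induction_linear with
    | zero => simp
    | add a b ha hb => rw [map_add, map_add, map_add, map_add, ha, hb]
    | single a r =>
      simp only [π, MonoidAlgebra.mapDomainRingHom_apply, MonoidAlgebra.mapRingHom_single, MonoidAlgebra.mapDomain_single]
      erw [MonoidAlgebra.mapRingHom_single]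
      exact MonoidAlgebra.mapDomain_single
  obtain ⟨φ, hφ⟩ := GrpSchLib.SubgroupFactor.exists_monomial ((π : R →* MonoidAlgebra Bp (Multiplicative M)).comp v)
    fun n => by
      show MonoidAlgebra.mapDomainRingHom Bp _ (π (v n)) * MonoidAlgebra.mapDomainRingHom Bp _ (π (v n)) = _
      rw [hπ, hπ, ← map_mul, hv]
      exact (hπ _ (v n)).symm
  haveI : Group.FG (Multiplicative N) := GroupFG.iff_add_fg.mpr ‹_›
  obtain ⟨G₀, hG₀⟩ := (Group.FG.out : (⊤ : Subgroup (Multiplicative N)).FG)
  let δ : Multiplicative N → R := fun n => v n - MonoidAlgebra.single (AddMonoidHom.toMultiplicative φ n) 1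
  have hk : ∀ n m, ∃ d ∉ p, d * (δ n).coeff m = 0 := fun n m => by
    have h1 : (π (δ n)).coeff m = 0 := by
      simp only [δ, map_sub]
      rw [show π (MonoidAlgebra.single (AddMonoidHom.toMultiplicative φ n) 1) =
        MonoidAlgebra.single (AddMonoidHom.toMultiplicative φ n) 1 from
          (MonoidAlgebra.mapRingHom_single _ _ _).trans (congrArg _ (map_one _)),
        show π (v n) = _ from hφ n, sub_self]
      rfl
    rw [MonoidAlgebra.coeff_mapRingHom] at h1
    obtain ⟨⟨d, hd⟩, he⟩ := (IsLocalization.map_eq_zero_iff p.primeCompl Bp _).mp h1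
    exact ⟨d, hd, he⟩
  choose e he he0 using hk
  refine ⟨∏ n ∈ G₀, ∏ m ∈ (δ n).coeff.support, e n m, fun h => ?_, φ, fun B' _ σ j' hj c hd => ?_⟩
  · obtain ⟨n, -, hn⟩ := Ideal.IsPrime.prod_mem_iff.mp h
    obtain ⟨m, -, hm⟩ := Ideal.IsPrime.prod_mem_iff.mp hn
    exact he n m hm
  obtain ⟨ev, hev₁, hev₂, hev₃⟩ := evalChar_unv (M := M) c
  let ρ : R →+* B' := ev.comp (MonoidAlgebra.mapRingHom (Multiplicative M) σ)
  have hρs : ρ.comp s = σ := RingHom.ext fun b => by
    show ev (MonoidAlgebra.mapRingHom _ σ (MonoidAlgebra.single 1 b)) = σ b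
    rw [MonoidAlgebra.mapRingHom_single]
    exact RingHom.congr_fun hev₁ (σ b)
  have hρ1 : ∀ m, ρ (MonoidAlgebra.single m 1) = c (MonoidAlgebra.single m 1) := fun m => by
    show ev (MonoidAlgebra.mapRingHom _ σ (MonoidAlgebra.single m 1)) = _
    rw [MonoidAlgebra.mapRingHom_single, map_one, hev₃]
  have hρu : ρ.comp (unv B M) = c := GrpSchLib.DiagActionRigid.coord_ext fun m => by
    rw [RingHom.comp_apply, unv_single, hρ1]
  have hgen : ∀ n ∈ G₀, ρ (v n) = ρ (MonoidAlgebra.single (AddMonoidHom.toMultiplicative φ n) 1) := fun n hn => by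
    have h0 : MonoidAlgebra.mapRingHom (Multiplicative M) σ (δ n) = 0 := by
      refine MonoidAlgebra.ext (Finsupp.ext fun m => ?_)
      rw [MonoidAlgebra.coeff_mapRingHom]
      by_cases hm : m ∈ (δ n).coeff.support
      · have hu : IsUnit (σ (e n m)) := isUnit_of_dvd_unit (map_dvd σ
          ((Finset.dvd_prod_of_mem (fun m => e n m) hm).trans
            (Finset.dvd_prod_of_mem (fun n => ∏ m ∈ (δ n).coeff.support, e n m) hn))) hd
        refine (hu.mul_right_eq_zero).mp ?_
        rw [← map_mul, he0, map_zero]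
      · rw [Finsupp.notMem_support_iff.mp hm, map_zero]
        rfl
    rw [← sub_eq_zero, ← map_sub]
    show ev (MonoidAlgebra.mapRingHom _ σ (δ n)) = 0
    rw [h0, map_zero]
  have hall : (ρ : R →* B').comp v = ((ρ : R →* B').comp
      ((MonoidAlgebra.of B (Multiplicative M)).comp (AddMonoidHom.toMultiplicative φ))) :=
    MonoidHom.eq_of_eqOn_dense hG₀ fun n hn => hgen n hn
  have hpull : ρ.comp w = pull φ c := GrpSchLib.DiagActionRigid.coord_ext fun n => by
    rw [pull_single, ← hρ1]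
    exact DFunLike.congr_fun hall n
  rw [← hpull, ← spec ρ σ hρs j' hj, hρu]

/-- The index type. -/
abbrev Idx (M N : Type) [AddCommGroup M] [AddCommGroup N] : Type u := ULift.{u} (N →+ M)

variable (X M N) in
/-- The constant scheme of maps of characters. -/
abbrev Hom0 : Over X := TwC.const X (Idx.{u} M N)

theorem empty_ext {Y K : Over X} [IsEmpty Y.left] (a b : Y ⟶ K) : a = b :=
  Over.OverMorphism.ext ((isInitialOfIsEmpty (X := Y.left)).hom_ext _ _)

theorem pt_disjoint {I : Type u} {Y : Over X} [Nonempty Y.left] {a : Y ⟶ TwC.const X I} {i i' : I}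
    (h : toUnit Y ≫ TwC.pt X I i = a) (h' : toUnit Y ≫ TwC.pt X I i' = a) : i = i' := by
  obtain ⟨y⟩ := ‹Nonempty Y.left›
  have e := congrArg (fun m : Y ⟶ TwC.const X I => m.left.base y) (h.trans h'.symm)
  exact GalTw.ι_inj e

/-- Preimages of the copies. -/
def copyPiece {I : Type u} {Y : Over X} (a : Y ⟶ TwC.const X I) (i : I) : Over X :=
  Over.mk ((a.left ⁻¹ᵁ (Sigma.ι (fun _ : I => X) i).opensRange).ι ≫ Y.hom)

/-- The inclusion of the preimage of a copy. -/
def copyι {I : Type u} {Y : Over X} (a : Y ⟶ TwC.const X I) (i : I) : copyPiece a i ⟶ Y :=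
  Over.homMk (a.left ⁻¹ᵁ (Sigma.ι (fun _ : I => X) i).opensRange).ι rfl

theorem copyι_cover {I : Type u} {Y : Over X} (a : Y ⟶ TwC.const X I) : IsCover (copyι a) :=
  isCover_of_openCover (fun i => inferInstanceAs (IsOpenImmersion (_ : Scheme.Opens _).ι)) fun y => by
    obtain ⟨i, x, hx⟩ := GalTw.exists_eq_ι (a.left.base y)
    exact ⟨i, ⟨y, x, hx⟩, rfl⟩

theorem copyι_comp {I : Type u} {Y : Over X} (a : Y ⟶ TwC.const X I) (i : I) :
    copyι a i ≫ a = toUnit _ ≫ TwC.pt X I i := by
  refine Over.OverMorphism.ext ?_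
  let l := IsOpenImmersion.lift (Sigma.ι (fun _ : I => X) i) ((copyι a i).left ≫ a.left) (by
    rintro _ ⟨w, rfl⟩
    exact w.2)
  have hl : l ≫ Sigma.ι (fun _ : I => X) i = (copyι a i).left ≫ a.left := IsOpenImmersion.lift_fac _ _ _
  have hl' : l = (copyPiece a i).hom := by
    have h1 := congrArg (· ≫ GalTw.cstHom X I) hl
    simp only [Category.assoc, GalTw.ι_cstHom, Category.comp_id] at h1
    rw [h1]
    exact Over.w (copyι a i ≫ a) |>.symm ▸ Over.w (copyι a i ≫ a)
  show (copyι a i).left ≫ a.left = (toUnit (copyPiece a i)).left ≫ Sigma.ι (fun _ : I => X) i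
  rw [← hl, hl']
  exact congrArg (· ≫ Sigma.ι (fun _ : I => X) i) (Over.w (toUnit (copyPiece a i))).symm

/-- The universal family. -/
theorem exists_univ :
    ∃ υ : Red.DS X M ⊗ Hom0 X M N ⟶ Red.DS X N, ∀ (Y : Over X) (g : Y ⟶ Red.DS X M) (i : Idx.{u} M N),
      lift g (toUnit Y ≫ TwC.pt X _ i) ≫ υ = g ≫ Dmap X i.down := by
  let q : ∀ i : Idx.{u} M N, 𝟙_ (Over X) ⟶ Hom0 X M N := fun i => TwC.pt X _ i
  have hq : IsCover q := isCover_of_openCover
    (fun i => inferInstanceAs (IsOpenImmersion (Sigma.ι (fun _ : Idx.{u} M N => X) i)))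
    fun x => by
      obtain ⟨i, y, hy⟩ := GalTw.exists_eq_ι x
      exact ⟨i, y, hy⟩
  have hq' : IsCover (fun i => Red.DS X M ◁ q i) :=
    IsCover.of_isPullback hq _ (snd _ _) (fun i => snd _ _) fun i => GrpSchLib.isPullback_whiskerLeft (q i)
  obtain ⟨υ, hυ⟩ := hq'.exists_glue (fun i => fst _ _ ≫ Dmap X i.down) fun i i' T a b hab => by
    rcases isEmpty_or_nonempty T.left with hT | hT
    · exact empty_ext _ _
    have h1 : a ≫ fst _ _ = b ≫ fst _ _ := by simpa using congrArg (· ≫ fst _ _) hab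
    have h2 : toUnit T ≫ q i = toUnit T ≫ q i' := by
      have := congrArg (· ≫ snd _ _) hab
      simp only [Category.assoc, whiskerLeft_snd] at this
      rwa [← Category.assoc, ← Category.assoc, toUnit_unique (a ≫ snd _ _) (toUnit T),
        toUnit_unique (b ≫ snd _ _) (toUnit T)] at this
    obtain rfl := pt_disjoint h2 rfl
    rw [← Category.assoc, ← Category.assoc, h1]
  refine ⟨υ, fun Y g i => ?_⟩
  rw [← lift_whiskerLeft, Category.assoc, hυ, lift_fst_assoc]

theorem whisker_cover {T : Over X} {κ : Type u} {P : κ → Over X} {q : ∀ i, P i ⟶ T} (hq : IsCover q) (H : Over X) :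
    IsCover (fun i => H ◁ q i) :=
  IsCover.of_isPullback hq _ (snd _ _) (fun i => snd _ _) fun i => GrpSchLib.isPullback_whiskerLeft (q i)

/-- `Hom(D(M), D(N))` is the constant scheme on `Hom(N, M)`. -/
theorem exists_representsHom_split [AddGroup.FG N] :
    ∃ υ : Red.DS X M ⊗ Hom0 X M N ⟶ Red.DS X N,
      AutFam.RepresentsHom (Red.DS X M) (Red.DS X N) (Hom0 X M N) υ ∧
      ∀ (Y : Over X) (g : Y ⟶ Red.DS X M) (i : Idx.{u} M N),
        lift g (toUnit Y ≫ TwC.pt X _ i) ≫ υ = g ≫ Dmap X i.down := by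
  obtain ⟨υ, hυ⟩ := exists_univ (X := X) (M := M) (N := N)
  have hev : ∀ {Y : Over X} (a : Y ⟶ Hom0 X M N) (i : Idx.{u} M N),
      (Red.DS X M ◁ copyι a i) ≫ (Red.DS X M ◁ a) ≫ υ = fst _ _ ≫ Dmap X i.down := fun {Y} a i => by
    rw [← Category.assoc, ← MonoidalCategory.whiskerLeft_comp, copyι_comp, ← hυ _ (fst _ (copyPiece a i)) i]
    congr 1
    exact CartesianMonoidalCategory.hom_ext _ _ (by simp) (by simp [toUnit_unique (snd _ _ ≫ toUnit _) (toUnit _)])
  refine ⟨υ, ⟨fun Y g₁ g₂ a => (copyι_cover a).hom_ext fun i => ?_, fun T ψ hψ => ?_⟩, hυ⟩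
  · simp only [← Category.assoc, comp_lift, MonObj.comp_mul, copyι_comp]
    simp only [Category.assoc, comp_lift, MonObj.comp_mul, copyι_comp, hυ, MonObj.mul_comp]
  -- charts of constancy
  have hloc : ∀ x : T.left, ∃ (B : CommRingCat.{u}) (j : Spec B ⟶ X) (q : spU j ⟶ T) (φ : N →+ M),
      IsOpenImmersion q.left ∧ x ∈ Set.range q.left.base ∧
        (Red.DS X M ◁ q) ≫ ψ = fst _ _ ≫ Dmap X φ := by
    intro x
    obtain ⟨V, hV, hxV, -⟩ := exists_isAffineOpen_mem_and_subset (TopologicalSpace.Opens.mem_top x)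
    let t : spU (hV.fromSpec ≫ T.hom) ⟶ T := Over.homMk hV.fromSpec rfl
    obtain ⟨y, hy⟩ : x ∈ Set.range hV.fromSpec := hV.range_fromSpec ▸ hxV
    obtain ⟨d, hd, φ, hφ⟩ := exists_phi_near hψ (hV.fromSpec ≫ T.hom) t y.asIdeal
    let Bd := Localization.Away d
    let σ : (Γ(T.left, V) : Type u) →+* Bd := algebraMap _ Bd
    let j : Spec (CommRingCat.of Bd) ⟶ X := Spec.map (CommRingCat.ofHom σ) ≫ hV.fromSpec ≫ T.hom
    let q : spU j ⟶ T := (Over.homMk (Spec.map (CommRingCat.ofHom σ)) rfl : spU j ⟶ spU (hV.fromSpec ≫ T.hom)) ≫ t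
    refine ⟨CommRingCat.of Bd, j, q, φ, ?_, ?_, ext_affine fun B' _ j' z => ?_⟩
    · haveI : IsOpenImmersion (Spec.map (CommRingCat.ofHom σ)) := IsOpenImmersion.of_isLocalization d
      exact inferInstanceAs (IsOpenImmersion (Spec.map (CommRingCat.ofHom σ) ≫ hV.fromSpec))
    · obtain ⟨z, hz⟩ : y ∈ Set.range (PrimeSpectrum.comap σ) := by
        rw [PrimeSpectrum.localization_away_comap_range Bd d]
        exact hd
      refine ⟨z, ?_⟩
      show (Spec.map (CommRingCat.ofHom σ) ≫ hV.fromSpec).base z = x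
      rw [Scheme.Hom.comp_apply, ← hy]
      exact congrArg _ hz
    · obtain ⟨c, hc⟩ := exists_eq_pt j' (z ≫ fst _ _)
      obtain ⟨ρ, hρ⟩ : ∃ ρ, Spec.map ρ = (z ≫ snd _ _).left := ⟨_, Spec.map_preimage _⟩
      have hj : Spec.map (CommRingCat.ofHom (ρ.hom.comp σ)) ≫ hV.fromSpec ≫ T.hom = j' := by
        rw [CommRingCat.ofHom_comp, Spec.map_comp, Category.assoc, CommRingCat.ofHom_hom, hρ]
        exact Over.w (z ≫ snd _ _)
      have hz : z = lift (z ≫ fst _ _) (z ≫ snd _ _) := by rw [← comp_lift, lift_fst_snd, Category.comp_id]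
      rw [hz, lift_fst_assoc, ← Category.assoc, lift_whiskerLeft, hc, pt_Dmap, ← hφ B' (ρ.hom.comp σ) j' hj c]
      · congr 2
        refine Over.OverMorphism.ext ?_
        show (z ≫ snd _ _).left ≫ q.left = _
        rw [← hρ]
        show _ ≫ Spec.map _ ≫ _ = Spec.map _ ≫ _
        simp only [← Category.assoc, ← Spec.map_comp]
        rfl
      · exact (IsLocalization.Away.algebraMap_isUnit d (S := Bd)).map ρ.hom
  choose B j q φ hq hqx hqψ using hloc
  have hcov : IsCover q := isCover_of_openCover hq fun x => ⟨x, hqx x⟩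
  have uniq : ∀ {Y : Over X} [Nonempty Y.left] (φ φ' : N →+ M),
      fst (Red.DS X M) Y ≫ Dmap X φ = fst _ _ ≫ Dmap X φ' → φ = φ' := by
    intro Y _ φ φ' h
    obtain ⟨y⟩ := ‹Nonempty Y.left›
    let z : spU (Y.left.fromSpecResidueField y ≫ Y.hom) ⟶ Y := Over.homMk (Y.left.fromSpecResidueField y) rfl
    refine Dmap_injective (Y.left.fromSpecResidueField y ≫ Y.hom) ?_
    have := congrArg ((Red.DS X M ◁ z) ≫ ·) h
    simpa using this
  obtain ⟨a, ha⟩ := hcov.exists_glue (fun x => toUnit _ ≫ TwC.pt X _ (ULift.up (φ x))) fun x x' Y r r' hrr => by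
    rcases isEmpty_or_nonempty Y.left with hY | hY
    · exact empty_ext _ _
    have h2 : φ x = φ x' := by
      refine uniq (Y := Y) _ _ ?_
      have h3 := congrArg (fun m => (Red.DS X M ◁ m) ≫ ψ) hrr
      simp only [MonoidalCategory.whiskerLeft_comp, Category.assoc, hqψ, whiskerLeft_fst_assoc] at h3
      exact h3
    rw [h2, ← Category.assoc, ← Category.assoc, toUnit_unique (r ≫ toUnit _) (r' ≫ toUnit _)]
  refine ⟨a, (whisker_cover hcov _).hom_ext fun x => ?_, fun a' ha' => hcov.hom_ext fun x => ?_⟩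
  · rw [← Category.assoc, ← MonoidalCategory.whiskerLeft_comp, ha, hqψ, ← hυ _ (fst _ _) (ULift.up (φ x))]
    congr 1
    exact CartesianMonoidalCategory.hom_ext _ _ (by simp) (by simp [toUnit_unique (snd _ _ ≫ toUnit _) (toUnit _)])
  · rw [ha]
    refine (copyι_cover (q x ≫ a')).hom_ext fun i => ?_
    rw [copyι_comp, ← Category.assoc, toUnit_unique (copyι (q x ≫ a') i ≫ toUnit _) (toUnit _)]
    rcases isEmpty_or_nonempty (copyPiece (q x ≫ a') i).left with hY | hY
    · exact empty_ext _ _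
    have h2 : i.down = φ x := by
      refine uniq (Y := copyPiece (q x ≫ a') i) _ _ ?_
      rw [← hev (q x ≫ a') i, MonoidalCategory.whiskerLeft_comp _ (q x) a', Category.assoc, ha', hqψ,
        whiskerLeft_fst_assoc]
    rw [← h2, ULift.up_down]

end Groth.Agent.TwHom19

end
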