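import Groth.Agent.MultDefLib.HomFam
import Groth.Agent.MultDefLib.HomFamBC
import Groth.Agent.MultDefLib.Mult
import Groth.Agent.TwHom19.Split
import Groth.Agent.S1402
import Mathlib.AlgebraicGeometry.Sites.Fpqc

/-!
# The twisted constant scheme of homomorphisms between quasi-isotrivial groups of multiplicative type
-/

universe u

open CategoryTheory CategoryTheory.Limits MonoidalCategory CartesianMonoidalCategory MonObj GrpObj AlgebraicGeometry

set_option backward.isDefEq.respectTransparency false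
set_option linter.style.haveILetI false

noncomputable section

namespace Groth.Agent.TwHom19

open DSPtsLib (theta theta_comp theta_mul theta_bijective)
open MultDefLib (RepOn fromBcProd map_lift_fromBcProd theta_surjective theta_map overIso exists_lift_over)

/-! ### The group of homomorphisms into a commutative group -/

section Group

variable {C : Type (u + 1)} [Category.{u} C] [CartesianMonoidalCategory C]

theorem grp_of_repr {X : C} (F : Cᵒᵖ ⥤ GrpCat.{u}) (α : (F ⋙ forget _).RepresentableBy X) (Y : C) (a b : Y ⟶ X) :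
    letI := GrpObj.ofRepresentableBy X F α
    α.homEquiv (a * b) = (show F.obj (Opposite.op Y) from α.homEquiv a) * (show F.obj (Opposite.op Y) from α.homEquiv b) := by
  letI := GrpObj.ofRepresentableBy X F α
  exact ((yonedaGrpObjIsoOfRepresentableBy X F α).hom.app (Opposite.op Y)).hom.map_mul a b

end Group

variable {S : Scheme.{u}} {H G : Over S} [GrpObj H] [GrpObj G]

variable (H G) in
/-- The families of homomorphisms into a commutative group form a group. -/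
def famGroup (hc : ∀ (X : Over S) (a b : X ⟶ G), a * b = b * a) (T : Over S) : Subgroup (H ⊗ T ⟶ G) where
  carrier := {φ | AutFam.IsHomFamily H G φ}
  mul_mem' {φ φ'} h h' X g₁ g₂ t := by
    rw [MonObj.comp_mul, MonObj.comp_mul, MonObj.comp_mul, h X g₁ g₂ t, h' X g₁ g₂ t, _root_.mul_assoc,
      _root_.mul_assoc]
    congr 1
    rw [← _root_.mul_assoc, hc X (lift g₂ t ≫ φ) (lift g₁ t ≫ φ'), _root_.mul_assoc]
  one_mem' X g₁ g₂ t := by simp
  inv_mem' {φ} h X g₁ g₂ t := by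
    rw [GrpObj.comp_inv, GrpObj.comp_inv, GrpObj.comp_inv, h X g₁ g₂ t, _root_.mul_inv_rev]
    exact hc X _ _

variable (H G) in
/-- The presheaf of groups of families of homomorphisms. -/
def famFunctor (hc : ∀ (X : Over S) (a b : X ⟶ G), a * b = b * a) : (Over S)ᵒᵖ ⥤ GrpCat.{u} where
  obj T := GrpCat.of (famGroup H G hc T.unop)
  map {T T'} a := GrpCat.ofHom
    { toFun := fun φ => ⟨(H ◁ a.unop) ≫ φ.1, MultDefLib.isHomFamily_comp φ.2 a.unop⟩
      map_one' := Subtype.ext (by simp)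
      map_mul' := fun φ φ' => Subtype.ext (MonObj.comp_mul _ _ _) }
  map_id T := by
    refine GrpCat.hom_ext (MonoidHom.ext fun φ => Subtype.ext ?_)
    show (H ◁ 𝟙 _) ≫ φ.1 = φ.1
    simp
  map_comp {T T' T''} a b := by
    refine GrpCat.hom_ext (MonoidHom.ext fun φ => Subtype.ext ?_)
    show (H ◁ (b.unop ≫ a.unop)) ≫ φ.1 = (H ◁ b.unop) ≫ (H ◁ a.unop) ≫ φ.1
    simp

/-- A scheme representing homomorphisms into a commutative group is a group, by pointwise multiplication. -/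
theorem exists_grpObj (hc : ∀ (X : Over S) (a b : X ⟶ G), a * b = b * a) {A : Over S} {υ : H ⊗ A ⟶ G}
    (h : AutFam.RepresentsHom H G A υ) :
    ∃ _ : GrpObj A, (∀ (X : Over S) (a b : X ⟶ A), (H ◁ (a * b)) ≫ υ = ((H ◁ a) ≫ υ) * ((H ◁ b) ≫ υ)) ∧
      ∀ (X : Over S) (r : X ⟶ H) (a b : X ⟶ A), lift r (a * b) ≫ υ = (lift r a ≫ υ) * (lift r b ≫ υ) := by
  let α : (famFunctor H G hc ⋙ forget _).RepresentableBy A :=
    { homEquiv := fun {T} => Equiv.ofBijective
        (fun a => (⟨(H ◁ a) ≫ υ, MultDefLib.isHomFamily_comp h.1 a⟩ : famGroup H G hc T))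
        ⟨fun a b hab => (h.2 T _ (MultDefLib.isHomFamily_comp h.1 b)).unique (congrArg Subtype.val hab) rfl,
          fun φ => by
            obtain ⟨a, ha, -⟩ := h.2 T φ.1 φ.2
            exact ⟨a, Subtype.ext ha⟩⟩
      homEquiv_comp := fun {T T'} f g => Subtype.ext (by
        show (H ◁ (f ≫ g)) ≫ υ = (H ◁ f) ≫ (H ◁ g) ≫ υ
        simp) }
  letI str := GrpObj.ofRepresentableBy A (famFunctor H G hc) α
  have key : ∀ (X : Over S) (a b : X ⟶ A), (H ◁ (a * b)) ≫ υ = ((H ◁ a) ≫ υ) * ((H ◁ b) ≫ υ) := fun X a b =>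
    congrArg Subtype.val (grp_of_repr (famFunctor H G hc) α X a b)
  refine ⟨str, key, fun X r a b => ?_⟩
  have e : ∀ c : X ⟶ A, lift r c ≫ υ = lift r (𝟙 X) ≫ (H ◁ c) ≫ υ := fun c => by simp
  rw [e, e, e, key, MonObj.comp_mul]

/-! ### Families over a base change -/

section BC

variable {X : Scheme.{u}} (f : X ⟶ S) {H' G' : Over X} [GrpObj H'] [GrpObj G']

/-- A family over the base change read over the base. -/
def dn (eH : H' ≅ Red.bc f H) (eG : G' ≅ Red.bc f G) {T : Over X} (φ : H' ⊗ T ⟶ G') :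
    H ⊗ (Over.map f).obj T ⟶ G :=
  haveI := MultDefLib.isIso_fromBcProd f H T
  inv (fromBcProd f H T) ≫ theta f ((eH.inv ▷ T) ≫ φ ≫ eG.hom)

omit [GrpObj H] in
theorem lift_dn (eH : H' ≅ Red.bc f H) (eG : G' ≅ Red.bc f G) {T Y : Over X} (φ : H' ⊗ T ⟶ G')
    (h : Y ⟶ Red.bc f H) (t : Y ⟶ T) :
    lift (theta f h) ((Over.map f).map t) ≫ dn f eH eG φ = theta f ((lift (h ≫ eH.inv) t ≫ φ) ≫ eG.hom) := by
  haveI := MultDefLib.isIso_fromBcProd f H T
  rw [← map_lift_fromBcProd]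
  simp only [dn, Category.assoc, IsIso.hom_inv_id_assoc, ← theta_comp]
  rw [← Category.assoc (lift h t), lift_whiskerRight]

omit [GrpObj H] in
theorem dn_mul (eH : H' ≅ Red.bc f H) (eG : G' ≅ Red.bc f G) [IsMonHom eG.hom] {T : Over X} (φ φ' : H' ⊗ T ⟶ G') :
    dn f eH eG (φ * φ') = dn f eH eG φ * dn f eH eG φ' := by
  haveI := MultDefLib.isIso_fromBcProd f H T
  rw [dn, dn, dn, MonObj.mul_comp, MonObj.comp_mul, theta_mul, MonObj.comp_mul]

omit [GrpObj H] in
theorem whisker_dn (eH : H' ≅ Red.bc f H) (eG : G' ≅ Red.bc f G) {T T' : Over X} (a : T' ⟶ T) (φ : H' ⊗ T ⟶ G') :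
    (H ◁ (Over.map f).map a) ≫ dn f eH eG φ = dn f eH eG ((H' ◁ a) ≫ φ) := by
  haveI := MultDefLib.isIso_fromBcProd f H T'
  rw [← cancel_epi (fromBcProd f H T')]
  have e : fromBcProd f H T' = lift (theta f (fst (Red.bc f H) T')) ((Over.map f).map (snd (Red.bc f H) T')) := rfl
  rw [e, lift_whiskerLeft_assoc, ← Functor.map_comp, lift_dn, lift_dn, lift_whiskerLeft_assoc]

theorem repOn_dn (eH : H' ≅ Red.bc f H) [IsMonHom eH.hom] [IsMonHom eH.inv] (eG : G' ≅ Red.bc f G)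
    [IsMonHom eG.hom] [IsMonHom eG.inv] {A : Over X} (υ' : H' ⊗ A ⟶ G')
    (hrep : AutFam.RepresentsHom H' G' A υ') : RepOn f A (dn f eH eG υ') := by
  haveI := fun T : Over X => MultDefLib.isIso_fromBcProd f H T
  have hdn := fun {T Y : Over X} (φ : H' ⊗ T ⟶ G') (h : Y ⟶ Red.bc f H) (t : Y ⟶ T) => lift_dn f eH eG φ h t
  have hfam : AutFam.IsHomFamily H G (dn f eH eG υ') := by
    intro Y g₁ g₂ t
    obtain ⟨Y', t', e, e', he, rfl⟩ := exists_lift_over f t
    obtain ⟨h₁, hh₁⟩ := theta_surjective f (e' ≫ g₁)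
    obtain ⟨h₂, hh₂⟩ := theta_surjective f (e' ≫ g₂)
    have hg₁ : g₁ = e ≫ theta f h₁ := by rw [hh₁, ← Category.assoc, he, Category.id_comp]
    have hg₂ : g₂ = e ≫ theta f h₂ := by rw [hh₂, ← Category.assoc, he, Category.id_comp]
    rw [hg₁, hg₂, ← MonObj.comp_mul, ← theta_mul, ← comp_lift, ← comp_lift, ← comp_lift, Category.assoc,
      Category.assoc, Category.assoc, hdn, hdn, hdn, ← MonObj.comp_mul, ← theta_mul, MonObj.mul_comp, hrep.1,
      MonObj.mul_comp]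
  refine ⟨hfam, fun T ψ hψ => ?_⟩
  obtain ⟨φ₁, hφ₁⟩ := theta_surjective f (fromBcProd f H T ≫ ψ)
  let φ : H' ⊗ T ⟶ G' := (eH.hom ▷ T) ≫ φ₁ ≫ eG.inv
  have hdnφ : dn f eH eG φ = ψ := by
    simp only [φ, dn, Category.assoc, Iso.inv_hom_id, Category.comp_id]
    rw [← comp_whiskerRight_assoc, Iso.inv_hom_id, id_whiskerRight, Category.id_comp, hφ₁,
      IsIso.inv_hom_id_assoc]
  have hφe : ∀ {Y : Over X} (h : Y ⟶ H') (t : Y ⟶ T),
      theta f ((lift h t ≫ φ) ≫ eG.hom) = lift (theta f (h ≫ eH.hom)) ((Over.map f).map t) ≫ ψ := fun {Y} h t => by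
    rw [← hdnφ, hdn, Category.assoc h, Iso.hom_inv_id, Category.comp_id]
  have hφfam : AutFam.IsHomFamily H' G' φ := fun Y h₁ h₂ t => by
    apply (@cancel_mono _ _ _ _ _ eG.hom (IsIso.mono_of_iso _) _ _).mp
    apply (theta_bijective f).1
    rw [MonObj.mul_comp, theta_mul, hφe, hφe, hφe, MonObj.mul_comp, theta_mul, hψ]
  have hinj : ∀ {T' : Over X} (φ φ' : H' ⊗ T' ⟶ G'), dn f eH eG φ = dn f eH eG φ' → φ = φ' := by
    intro T' φ φ' h
    simp only [dn, cancel_epi] at h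
    exact (cancel_epi (eH.inv ▷ T')).mp (by simpa using (theta_bijective f).1 h)
  obtain ⟨a, ha, hu⟩ := hrep.2 T φ hφfam
  refine ⟨a, (whisker_dn f eH eG a υ').trans ((congrArg (dn f eH eG) ha).trans hdnφ), fun a' ha' => hu a' (hinj _ _ ?_)⟩
  rw [← whisker_dn, ha', hdnφ]

/-- The base change of a representing scheme. -/
theorem repOn_bc {A : Over S} {υ : H ⊗ A ⟶ G} (h : AutFam.RepresentsHom H G A υ) :
    RepOn f (Red.bc f A) ((H ◁ theta f (𝟙 (Red.bc f A))) ≫ υ) := by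
  have e : ∀ {Y : Over X} (a : Y ⟶ Red.bc f A),
      (H ◁ (Over.map f).map a) ≫ (H ◁ theta f (𝟙 _)) ≫ υ = (H ◁ theta f a) ≫ υ := fun a => by
    rw [← Category.assoc, ← MonoidalCategory.whiskerLeft_comp, ← theta_comp, Category.comp_id]
  refine ⟨MultDefLib.isHomFamily_comp h.1 _, fun T φ hφ => ?_⟩
  obtain ⟨b, hb, hu⟩ := h.2 _ φ hφ
  obtain ⟨a, ha⟩ := theta_surjective f b
  refine ⟨a, (e a).trans (ha ▸ hb), fun a' ha' => (theta_bijective f).1 ?_⟩
  rw [ha, hu _ ((e a').symm.trans ha')]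

/-- Two representing schemes over a base change are isomorphic. -/
theorem repOn_iso {A A' : Over X} {υ : H ⊗ (Over.map f).obj A ⟶ G} {υ' : H ⊗ (Over.map f).obj A' ⟶ G}
    (h : RepOn f A υ) (h' : RepOn f A' υ') :
    ∃ e : A ≅ A', (H ◁ (Over.map f).map e.hom) ≫ υ' = υ ∧ (H ◁ (Over.map f).map e.inv) ≫ υ = υ' := by
  obtain ⟨a, ha, -⟩ := h'.univ A υ h.fam
  obtain ⟨b, hb, -⟩ := h.univ A' υ' h'.fam
  refine ⟨⟨a, b, (h.univ A υ h.fam).unique ?_ ?_, (h'.univ A' υ' h'.fam).unique ?_ ?_⟩, ha, hb⟩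
  · rw [Functor.map_comp, MonoidalCategory.whiskerLeft_comp, Category.assoc, hb, ha]
  · simp
  · rw [Functor.map_comp, MonoidalCategory.whiskerLeft_comp, Category.assoc, ha, hb]
  · simp

end BC

/-- Etale families which are jointly surjective are coverings for the fpqc topology. -/
theorem fpqc_of_etale {κ : Type u} {X : κ → Scheme.{u}} (f : ∀ i, X i ⟶ S) [∀ i, Etale (f i)]
    (hs : ∀ s : S, ∃ i, s ∈ Set.range (f i).base) : Presieve.ofArrows X f ∈ Scheme.fpqcPrecoverage S := by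
  refine Scheme.fppfPrecoverage_le_fpqcPrecoverage _ ?_
  rw [Scheme.fppfPrecoverage, Scheme.ofArrows_mem_precoverage_iff]
  exact ⟨fun s => hs s, fun i => ⟨inferInstance, inferInstance⟩⟩

/-- Quasi-isotrivial groups of multiplicative type have a twisted constant scheme of homomorphisms. -/
theorem exists_hom_twisted {κ : Type u} {X : κ → Scheme.{u}} (f : ∀ i, X i ⟶ S) [∀ i, Etale (f i)]
    (hs : ∀ s : S, ∃ i, s ∈ Set.range (f i).base) {M N : κ → Type} [∀ i, AddCommGroup (M i)]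
    [∀ i, AddCommGroup (N i)] [∀ i, AddGroup.FG (N i)]
    (eH : ∀ i, Grp.mk (Red.DS (X i) (M i)) ≅ Grp.mk (Red.bc (f i) H))
    (eG : ∀ i, Grp.mk (Red.DS (X i) (N i)) ≅ Grp.mk (Red.bc (f i) G)) :
    ∃ (A : Over S) (υ : H ⊗ A ⟶ G), AutFam.RepresentsHom H G A υ ∧
      ∀ i, ∃ (e : Red.bc (f i) A ≅ Hom0 (X i) (M i) (N i)) (υ₀ : Red.DS (X i) (M i) ⊗ Hom0 (X i) (M i) (N i) ⟶ Red.DS (X i) (N i)),
        (∀ (Y : Over (X i)) (g : Y ⟶ Red.DS (X i) (M i)) (k : Idx.{u} (M i) (N i)),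
          lift g (toUnit Y ≫ TwC.pt (X i) _ k) ≫ υ₀ = g ≫ Dmap (X i) k.down) ∧
        ∀ (Y : Over (X i)) (a : Y ⟶ Red.bc (f i) A),
          (H ◁ theta (f i) a) ≫ υ = dn (f i) (overIso (eH i)) (overIso (eG i)) ((Red.DS (X i) (M i) ◁ (a ≫ e.hom)) ≫ υ₀) := by
  haveI := fun i => (eH i).hom.hom.isMonHom_hom
  haveI := fun i => (eH i).inv.hom.isMonHom_hom
  haveI := fun i => (eG i).hom.hom.isMonHom_hom
  haveI := fun i => (eG i).inv.hom.isMonHom_hom
  haveI h1 : ∀ i, IsMonHom (overIso (eH i)).hom := fun i => (eH i).hom.hom.isMonHom_hom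
  haveI h2 : ∀ i, IsMonHom (overIso (eH i)).inv := fun i => (eH i).inv.hom.isMonHom_hom
  haveI h3 : ∀ i, IsMonHom (overIso (eG i)).hom := fun i => (eG i).hom.hom.isMonHom_hom
  haveI h4 : ∀ i, IsMonHom (overIso (eG i)).inv := fun i => (eG i).inv.hom.isMonHom_hom
  choose υ₀ hυ₀ hev using fun i => exists_representsHom_split (X := X i) (M := M i) (N := N i)
  have hrep := fun i => repOn_dn (f i) (overIso (eH i)) (overIso (eG i)) (υ₀ i) (hυ₀ i)
  have hA : ∀ i, MoreMor.IsIndQuasiAffineHom (Hom0 (X i) (M i) (N i)).hom := fun i => by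
    show MoreMor.IsIndQuasiAffineHom (GalTw.cstHom (X i) (Idx.{u} (M i) (N i)))
    exact S1402.result _
  obtain ⟨A, υ, hυ, -⟩ := MultDefLib.exists_representsHom_of_cover (fpqc_of_etale f hs) hrep hA
  refine ⟨A, υ, hυ, fun i => ?_⟩
  obtain ⟨e, he, -⟩ := repOn_iso (f i) (repOn_bc (f i) hυ) (hrep i)
  refine ⟨e, υ₀ i, hev i, fun Y a => ?_⟩
  rw [← whisker_dn, Functor.map_comp, MonoidalCategory.whiskerLeft_comp, Category.assoc, he, ← Category.assoc,
    ← MonoidalCategory.whiskerLeft_comp, ← theta_comp, Category.comp_id]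

end Groth.Agent.TwHom19

end
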