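import Groth.Agent.TwHom19.CharConst
import Mathlib.AlgebraicGeometry.Sites.Fpqc

/-!
# The dual of a twisted constant commutative group
-/

universe u

open CategoryTheory CategoryTheory.Limits MonoidalCategory CartesianMonoidalCategory MonObj GrpObj AlgebraicGeometry

set_option linter.style.haveILetI false

noncomputable section

namespace Groth.Agent.TwHom19

open DSPtsLib (theta theta_comp theta_mul theta_bijective)
open MultDefLib (RepOn fromBcProd theta_surjective overIso)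

variable {S : Scheme.{u}}

/-- The splitting pieces of an fpqc covering form a covering family. -/
theorem fpqc_of_locally {S' : Scheme.{u}} (f : S' ⟶ S) [Flat f] [Surjective f]
    (hqc : ∀ V : S.Opens, IsAffineOpen V → ∃ W : S'.Opens, IsCompact (W : Set S') ∧ f.base '' (W : Set S') = (V : Set S))
    (U : S' → S'.Opens) (hU : ∀ x, x ∈ U x) :
    Presieve.ofArrows (fun x => (U x : Scheme.{u})) (fun x => (U x).ι ≫ f) ∈ Scheme.fpqcPrecoverage S := by
  classical
  refine ⟨?_, ?_⟩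
  · have h : (PreZeroHypercover.mk S' (fun x => (U x : Scheme.{u})) (fun x => (U x).ι ≫ f)).presieve₀ ∈
        Scheme.qcPrecoverage S := by
      refine Scheme.presieve₀_mem_qcPrecoverage_iff.2 ⟨fun {V} hV => ?_⟩
      obtain ⟨W, hWc, hWV⟩ := hqc V hV
      have hex : ∀ w : (W : Set S'), ∃ B : S'.Opens, IsAffineOpen B ∧ (w : S') ∈ B ∧ B ≤ W ⊓ U w := fun w => by
        obtain ⟨B, hB, hw, hle⟩ := exists_isAffineOpen_mem_and_subset (U := W ⊓ U w) ⟨w.2, hU w⟩
        exact ⟨B, hB, hw, hle⟩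
      choose B hB hwB hBW using hex
      obtain ⟨t, ht⟩ := hWc.elim_finite_subcover (fun w => (B w : Set S')) (fun w => (B w).2)
        fun w hw => Set.mem_iUnion.mpr ⟨⟨w, hw⟩, hwB _⟩
      refine IsCompactOpenCovered.of_finite (fun w : t => (w.1 : S'))
        (fun w => ((U (w.1 : S')).ι ⁻¹ᵁ B w.1)) (fun w => ?_) ?_
      · show IsCompact ((U (w.1 : S')).ι.base ⁻¹' (B w.1 : Set S'))
        refine (U (w.1 : S')).ι.isOpenEmbedding.toIsEmbedding.isInducing.isCompact_preimage' (hB w.1).isCompact ?_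
        rintro x hx
        exact ⟨⟨x, (hBW w.1 hx).2⟩, rfl⟩
      · rw [← hWV]
        refine subset_antisymm (Set.iUnion_subset fun w => ?_) ?_
        · rintro _ ⟨x, hx, rfl⟩
          exact ⟨_, (hBW w.1 hx).1, (Scheme.Hom.comp_apply _ _ _).symm⟩
        · rintro _ ⟨x, hx, rfl⟩
          obtain ⟨w, hw, hxw⟩ := Set.mem_iUnion₂.1 (ht hx)
          exact Set.mem_iUnion.mpr ⟨⟨w, hw⟩, ⟨x, (hBW w hxw).2⟩, hxw, Scheme.Hom.comp_apply _ _ _⟩
    exact h
  · rw [Scheme.ofArrows_mem_precoverage_iff]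
    refine ⟨fun s => ?_, fun x => inferInstanceAs (Flat _)⟩
    obtain ⟨x, hx⟩ := f.surjective s
    exact ⟨x, ⟨x, hU x⟩, hx⟩

/-- Changing the index type of a constant scheme. -/
theorem exists_constIso (X : Scheme.{u}) (M : Type) :
    ∃ c : TwC.const X M ≅ TwC.const X (ULift.{u} M), ∀ m, TwC.pt X M m ≫ c.hom = TwC.pt X _ (ULift.up m) := by
  refine ⟨⟨TwC.constMap X (ULift.up : M → ULift.{u} M), TwC.constMap X ULift.down, Over.OverMorphism.ext (Sigma.hom_ext _ _ fun m => ?_),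
    Over.OverMorphism.ext (Sigma.hom_ext _ _ fun m => ?_)⟩, fun m => Over.OverMorphism.ext (by simp [TwC.constMap, TwC.pt])⟩
  · simp [TwC.constMap]
  · simp [TwC.constMap]

/-- The data of the splitting of the dual at one member of a covering. -/
theorem exists_repOn_dual {X : Scheme.{u}} [Nonempty X] (f : X ⟶ S) (R : Over S) [GrpObj R]
    (hcomm : ∀ (Y : Over S) (a b : Y ⟶ R), a * b = b * a) {M : Type} [Group M] (e : Red.bc f R ≅ TwC.const X M)
    (he : TwC.IsConstGrp M (Red.bc f R) e) :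
    ∃ (N : Type) (_ : AddCommGroup N) (υ : R ⊗ (Over.map f).obj (Red.DS X N) ⟶ Red.Gm S),
      RepOn f (Red.DS X N) υ ∧ ∀ (Y : Over X) (c c' : Y ⟶ Red.DS X N),
        (R ◁ (Over.map f).map (c * c')) ≫ υ = ((R ◁ (Over.map f).map c) ≫ υ) * ((R ◁ (Over.map f).map c') ≫ υ) := by
  obtain ⟨c, hc⟩ := exists_constIso X M
  let e' : Red.bc f R ≅ TwC.const X (ULift.{u} M) := e ≪≫ c
  have hpt : ∀ m : M, TwC.pt X _ (ULift.up m) ≫ e'.inv = TwC.pt X M m ≫ e.inv := fun m => by
    rw [← hc]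
    simp [e']
  have hMc : ∀ m n : M, m * n = n * m := fun m n => by
    have h1 : TwC.pt X M (m * n) ≫ e.inv = TwC.pt X M (n * m) ≫ e.inv := by
      rw [← he, ← he]
      exact (theta_bijective f).1 (by rw [theta_mul, theta_mul, hcomm])
    rw [cancel_mono] at h1
    have h2 := congrArg (· ≫ c.hom) h1
    simp only [hc] at h2
    haveI : Nonempty (𝟙_ (Over X)).left := ‹Nonempty X›
    have h3 : toUnit (𝟙_ (Over X)) ≫ TwC.pt X _ (ULift.up (m * n)) = toUnit _ ≫ TwC.pt X _ (ULift.up (n * m)) :=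
      congrArg (toUnit _ ≫ ·) h2
    exact congrArg ULift.down (pt_disjoint h3 rfl)
  letI : CommGroup M := { ‹Group M› with mul_comm := hMc }
  let p : ULift.{u} M ≃ Additive M := Equiv.ulift.trans Additive.ofMul
  obtain ⟨υ₀, hυ₀, hlin⟩ := exists_representsHom_const (M := Additive M) e' p fun m n => by
    rw [show p.symm m = ULift.up (Additive.toMul m) from rfl, show p.symm n = ULift.up (Additive.toMul n) from rfl,
      show p.symm (m + n) = ULift.up (Additive.toMul m * Additive.toMul n) from rfl, hpt, hpt, hpt, he]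
  obtain ⟨eG⟩ := GrpSchLib.MultTypeBC.bc_DS f ℤ
  let E := overIso eG.symm
  haveI : IsMonHom E.hom := eG.inv.hom.isMonHom_hom
  haveI : IsMonHom E.inv := eG.hom.hom.isMonHom_hom
  haveI : IsMonHom (Iso.refl (Red.bc f R)).hom := inferInstanceAs (IsMonHom (𝟙 _))
  haveI : IsMonHom (Iso.refl (Red.bc f R)).inv := inferInstanceAs (IsMonHom (𝟙 _))
  refine ⟨Additive M, inferInstance, dn f (Iso.refl _) E υ₀, repOn_dn f (Iso.refl _) E υ₀ hυ₀, fun Y a a' => ?_⟩
  rw [whisker_dn, whisker_dn, whisker_dn, ← dn_mul, hlin]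

/-- The dual of a twisted constant commutative group is of multiplicative type. -/
theorem exists_dual (R : Over S) [GrpObj R]
    (hR : TwC.Locally S TwC.Topology.fpqc (fun S' f => ∃ (M : Type) (_ : Group M) (e : Red.bc f R ≅ TwC.const S' M),
      TwC.IsConstGrp M (Red.bc f R) e))
    (hcomm : ∀ (X : Over S) (a b : X ⟶ R), a * b = b * a) :
    ∃ (D : Over S) (_ : GrpObj D) (υ : R ⊗ D ⟶ Red.Gm S), AutFam.RepresentsHom R (Red.Gm S) D υ ∧
      (∀ (X : Over S) (r : X ⟶ R) (a b : X ⟶ D), lift r (a * b) ≫ υ = (lift r a ≫ υ) * (lift r b ≫ υ)) ∧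
      TwC.Locally S TwC.Topology.fpqc (fun S' f => ∃ (M : Type) (_ : AddCommGroup M),
        Nonempty (Grp.mk (Red.bc f D) ≅ Grp.mk (Red.DS S' M))) := by
  obtain ⟨S', f, hflat, hsurj, hqc, hloc⟩ := hR
  choose U hU M iM e he using hloc
  haveI : ∀ x, Nonempty (U x : Scheme.{u}) := fun x => ⟨⟨x, hU x⟩⟩
  choose N iN υ₁ hrep hlin using fun x => exists_repOn_dual ((U x).ι ≫ f) R hcomm (e x) (he x)
  have hA : ∀ x, MoreMor.IsIndQuasiAffineHom (Red.DS (U x : Scheme.{u}) (N x)).hom := fun x => by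
    haveI : IsAffine (Red.diag (ULift.{u} ℤ) (N x)).left := inferInstanceAs (IsAffine (Spec _))
    haveI : IsAffineHom (Red.DS (U x : Scheme.{u}) (N x)).hom := MorphismProperty.pullback_snd (P := @IsAffineHom)
      (Red.diag (ULift.{u} ℤ) (N x)).hom _ (isAffineHom_of_isAffine (Red.diag (ULift.{u} ℤ) (N x)).hom)
    intro V hV W hW
    haveI : IsAffine ((Red.DS (U x : Scheme.{u}) (N x)).hom ⁻¹ᵁ V : Scheme.{u}) := hV.preimage _
    haveI : CompactSpace (W : Scheme.{u}) := isCompact_iff_compactSpace.mp hW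
    exact Scheme.IsQuasiAffine.of_isImmersion W.ι
  obtain ⟨D, υ, hυ, -⟩ := MultDefLib.exists_representsHom_of_cover (fpqc_of_locally f hqc U hU) hrep hA
  obtain ⟨str, hev, hbil⟩ := exists_grpObj (fun X a b => DS_comm ℤ X a b) hυ
  refine ⟨D, str, υ, hυ, hbil, S', f, hflat, hsurj, hqc, fun x => ⟨U x, hU x, N x, inferInstance, ?_⟩⟩
  obtain ⟨ε, hε, -⟩ := repOn_iso ((U x).ι ≫ f) (repOn_bc ((U x).ι ≫ f) hυ) (hrep x)
  have hdn : ∀ {Y : Over (U x : Scheme.{u})} (a : Y ⟶ Red.bc ((U x).ι ≫ f) D),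
      (R ◁ theta ((U x).ι ≫ f) a) ≫ υ = (R ◁ (Over.map _).map (a ≫ ε.hom)) ≫ υ₁ x := fun {Y} a => by
    rw [Functor.map_comp, MonoidalCategory.whiskerLeft_comp, Category.assoc, hε, ← Category.assoc,
      ← MonoidalCategory.whiskerLeft_comp, ← theta_comp, Category.comp_id]
  haveI : IsMonHom ε.hom := MultLift19.isMonHom_of_mul _ fun Y a b => by
    refine ((hrep x).univ Y _ (MultDefLib.isHomFamily_comp (hrep x).fam _)).unique rfl ?_
    rw [hlin, ← hdn, ← hdn, ← hdn, theta_mul, hev]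
  exact ⟨Grp.mkIso' ε⟩

end Groth.Agent.TwHom19

end
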